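import Cfsg.Agent.BpTab.Base
import Cfsg.Agent.S0029
import Cfsg.Agent.Lib.FrattiniPGroup
import Cfsg.Agent.S0144
import Cfsg.Agent.Lib.ElemAbGL
import Cfsg.Agent.SylowL5.TypeAGen

-- merged: Cfsg.Agent.BpNum.Act
section

/-!
# S1332, sporadic groups: where `[L_{p'}(H), O_{p'}(H)] ≠ 1` comes from

`good_of_act` : if for every `r`-subgroup `R` of `O_{p'}(H)` (`r ≠ p`) the group `N_H(R)` induces a solvable group on
`R / Φ(R)`, then `Good p H`. `card_mul_card_dvd` : `|R| |N_H(R)^{R/Φ(R)}|` divides `|H|`.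
-/

set_option autoImplicit false

namespace Cfsg.Agent.BpNum

open Subgroup Cfsg Cfsg.Agent.Lib Cfsg.Agent.SignalizersComponents
open Cfsg.Agent.BpTab Cfsg.Agent.Intrinsic.Charac
open scoped commutatorElement Pointwise

section Act

variable {H : Type*} [Group H]

/-- the action of `N(R)` on `R / Φ(R)` -/
noncomputable def act (R : Subgroup H) : normalizer (R : Set H) →* MulAut (R ⧸ frattini R) where
  toFun n := QuotientGroup.congr (frattini R) (frattini R) (R.normalizerMonoidHom n)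
    (Subgroup.characteristic_iff_map_eq.1 inferInstance _)
  map_one' := by
    ext v
    induction v using QuotientGroup.induction_on with
    | H q =>
      rw [map_one]
      rfl
  map_mul' a b := by
    ext v
    induction v using QuotientGroup.induction_on with
    | H q =>
      rw [map_mul]
      rfl

theorem act_mk (R : Subgroup H) (n : normalizer (R : Set H)) (q : R) :
    act R n (QuotientGroup.mk q) = QuotientGroup.mk (R.normalizerMonoidHom n q) := rfl

variable [Finite H] {r : ℕ} [hr : Fact r.Prime] {R : Subgroup H}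

theorem quo_comm (hR : IsPGroup r R) (a b : R ⧸ frattini R) : a * b = b * a := by
  induction a using QuotientGroup.induction_on with
  | H x =>
    induction b using QuotientGroup.induction_on with
    | H y =>
      rw [← QuotientGroup.mk_mul, ← QuotientGroup.mk_mul, QuotientGroup.eq]
      have h1 := Lib.FrattiniPGroup.commutator_mem_frattini hR y⁻¹ x⁻¹
      have h2 : (x * y)⁻¹ * (y * x) = ⁅y⁻¹, x⁻¹⁆ := by
        rw [commutatorElement_def]; group
      rw [h2]
      exact h1

theorem quo_pow (hR : IsPGroup r R) (a : R ⧸ frattini R) : a ^ r = 1 := by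
  induction a using QuotientGroup.induction_on with
  | H x =>
    rw [← QuotientGroup.mk_pow, QuotientGroup.eq_one_iff]
    exact Lib.FrattiniPGroup.pow_mem_frattini hR x

theorem subgroupOf_le_ker (hR : IsPGroup r R) : R.subgroupOf (normalizer (R : Set H)) ≤ (act R).ker := by
  intro x hx
  rw [MonoidHom.mem_ker]
  ext v
  induction v using QuotientGroup.induction_on with
  | H q =>
    rw [act_mk, MulAut.one_apply]
    have h2 : R.normalizerMonoidHom x q = (⟨(x : H), mem_subgroupOf.1 hx⟩ : R) * q * (⟨(x : H), mem_subgroupOf.1 hx⟩ : R)⁻¹ :=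
      rfl
    rw [h2, QuotientGroup.mk_mul, QuotientGroup.mk_mul, QuotientGroup.mk_inv,
      quo_comm hR (QuotientGroup.mk _), mul_inv_cancel_right]

/-- a `p`-subgroup acting trivially on `R / Φ(R)` centralises `R` -/
theorem le_centralizer_of_le_ker {p : ℕ} [hp : Fact p.Prime] (hrp : r ≠ p) (hR : IsPGroup r R) {P : Subgroup H}
    (hP : IsPGroup p P) (h : P ≤ (act R).ker.map (normalizer (R : Set H)).subtype) :
    P ≤ centralizer (R : Set H) := by
  have hPN : P ≤ normalizer (R : Set H) := h.trans (map_subtype_le _)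
  refine S0029.result P R hPN ?_ ?_
  · obtain ⟨a, ha⟩ := IsPGroup.iff_card.1 hP
    obtain ⟨b, hb⟩ := IsPGroup.iff_card.1 (hR.to_subgroup (frattini R))
    rw [ha, hb]
    exact Nat.Coprime.pow _ _ ((Nat.coprime_primes hp.out hr.out).2 hrp.symm)
  · intro a ha k hk
    obtain ⟨n, hn, rfl⟩ := h ha
    have h1 : act R n (QuotientGroup.mk ⟨k, hk⟩) = QuotientGroup.mk ⟨k, hk⟩ := by
      rw [MonoidHom.mem_ker.1 hn]; rfl
    rw [act_mk] at h1
    have h2 : R.normalizerMonoidHom n ⟨k, hk⟩ * ⟨k, hk⟩⁻¹ ∈ frattini R := by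
      rw [← QuotientGroup.eq_one_iff, QuotientGroup.mk_mul, QuotientGroup.mk_inv, h1, mul_inv_cancel]
    exact ⟨_, h2, rfl⟩

omit [Finite H] hr in
theorem commutator_sup_le {X O : Subgroup H} [O.Normal] : ⁅X ⊔ O, X ⊔ O⁆ ≤ ⁅X, X⁆ ⊔ O := by
  have h1 : (⁅X ⊔ O, X ⊔ O⁆).map (QuotientGroup.mk' O) = (⁅X, X⁆).map (QuotientGroup.mk' O) := by
    rw [Subgroup.map_commutator, Subgroup.map_commutator, Subgroup.map_sup]
    have h2 : O.map (QuotientGroup.mk' O) = ⊥ := by
      rw [Subgroup.map_eq_bot_iff, QuotientGroup.ker_mk']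
    rw [h2, sup_bot_eq]
  calc ⁅X ⊔ O, X ⊔ O⁆ ≤ ((⁅X ⊔ O, X ⊔ O⁆).map (QuotientGroup.mk' O)).comap (QuotientGroup.mk' O) := le_comap_map _ _
    _ = ((⁅X, X⁆).map (QuotientGroup.mk' O)).comap (QuotientGroup.mk' O) := by rw [h1]
    _ = ⁅X, X⁆ ⊔ O := by rw [comap_map_eq, QuotientGroup.ker_mk']

omit [Finite H] hr in
/-- a perfect subgroup is covered by the kernel of the action, if the action is solvable -/
theorem le_ker_sup {O : Subgroup H} [hOn : O.Normal] {L : Subgroup H} (hL : ⁅L, L⁆ = L)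
    (hN : normalizer (R : Set H) ⊔ O = ⊤) (hs : Group.IsSolvable (act R).range) :
    L ≤ (act R).ker.map (normalizer (R : Set H)).subtype ⊔ O := by
  have key : ∀ n, L ≤ (derivedSeries (normalizer (R : Set H)) n).map (normalizer (R : Set H)).subtype ⊔ O := by
    intro n
    induction n with
    | zero =>
      rw [derivedSeries_zero, ← MonoidHom.range_eq_map, range_subtype, hN]
      exact le_top
    | succ n ih =>
      rw [derivedSeries_succ, Subgroup.map_commutator]
      calc L = ⁅L, L⁆ := hL.symm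
        _ ≤ _ := commutator_mono ih ih
        _ ≤ _ := commutator_sup_le
  obtain ⟨n, hn⟩ := hs.solvable
  have h1 := map_derivedSeries_le_derivedSeries (act R).rangeRestrict n
  rw [hn, le_bot_iff, Subgroup.map_eq_bot_iff, MonoidHom.ker_rangeRestrict] at h1
  exact (key n).trans (sup_le_sup_right (map_mono h1) O)

theorem relIndex_dvd {K O : Subgroup H} [O.Normal] : K.relIndex (K ⊔ O) ∣ Nat.card O := by
  have h1 : O.relIndex (K ⊔ O) = O.relIndex K := relIndex_sup_right _ _
  have h2 : (K ⊓ O).relIndex K * K.relIndex (K ⊔ O) = (K ⊓ O).relIndex (K ⊔ O) :=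
    relIndex_mul_relIndex _ _ _ inf_le_left le_sup_left
  have h3 : (K ⊓ O).relIndex O * O.relIndex (K ⊔ O) = (K ⊓ O).relIndex (K ⊔ O) :=
    relIndex_mul_relIndex _ _ _ inf_le_right le_sup_right
  have h4 : (K ⊓ O).relIndex K = O.relIndex K := inf_relIndex_left _ _
  have h5 : O.relIndex K ≠ 0 := fun h => Nat.card_pos.ne' (Nat.eq_zero_of_zero_dvd (h ▸ relIndex_dvd_card O K))
  rw [← h3, h4, h1, mul_comm] at h2
  have h6 := Nat.eq_of_mul_eq_mul_right (Nat.pos_of_ne_zero h5) h2
  rw [h6]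
  exact relIndex_dvd_card _ _

/-- Sylow: a `p`-subgroup of `K O` is conjugate into `K` -/
theorem exists_conj_le {p : ℕ} [hp : Fact p.Prime] {K O P : Subgroup H} [O.Normal] (hO : (Nat.card O).Coprime p)
    (hP : IsPGroup p P) (hPK : P ≤ K ⊔ O) :
    ∃ (g : H) (Q : Subgroup H), Q ≤ K ∧ IsPGroup p Q ∧ ∀ y ∈ P, g⁻¹ * y * g ∈ Q := by
  obtain ⟨Q0⟩ : Nonempty (Sylow p K) := inferInstance
  set Q : Subgroup H := (Q0 : Subgroup K).map K.subtype with hQ
  have hQK : Q ≤ K := map_subtype_le _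
  have hQp : IsPGroup p Q := Q0.2.map _
  have hQT : Q ≤ K ⊔ O := hQK.trans le_sup_left
  have hidx : ¬ p ∣ (Q.subgroupOf (K ⊔ O)).index := by
    intro hd
    have h1 : (Q.subgroupOf (K ⊔ O)).index = Q.relIndex (K ⊔ O) := rfl
    have h2 := relIndex_mul_relIndex Q K (K ⊔ O) hQK le_sup_left
    have h3 : Q.relIndex K = (Q0 : Subgroup K).index := by
      rw [hQ, Subgroup.relIndex, Subgroup.subgroupOf, Subgroup.comap_map_eq_self_of_injective K.subtype_injective]
    rw [h1, ← h2, hp.out.dvd_mul] at hd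
    rcases hd with hd | hd
    · rw [h3] at hd
      exact Q0.not_dvd_index hd
    · have h4 : p ∣ Nat.card O := hd.trans relIndex_dvd
      exact (Nat.Prime.coprime_iff_not_dvd hp.out).1 hO.symm h4
  let S : Sylow p ↥(K ⊔ O) := (hQp.comap_of_injective (K ⊔ O).subtype (K ⊔ O).subtype_injective :
    IsPGroup p (Q.subgroupOf (K ⊔ O))).toSylow hidx
  obtain ⟨S', hS'⟩ := (hP.comap_of_injective (K ⊔ O).subtype (K ⊔ O).subtype_injective :
    IsPGroup p (P.subgroupOf (K ⊔ O))).exists_le_sylow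
  obtain ⟨t, ht⟩ := MulAction.exists_smul_eq ↥(K ⊔ O) S S'
  refine ⟨t, Q, hQK, hQp, fun y hy => ?_⟩
  have h1 : (⟨y, hPK hy⟩ : ↥(K ⊔ O)) ∈ (S' : Subgroup ↥(K ⊔ O)) := hS' (mem_subgroupOf.2 hy)
  rw [← ht] at h1
  have h2 : (⟨y, hPK hy⟩ : ↥(K ⊔ O)) ∈ (MulAut.conj t • (S : Subgroup ↥(K ⊔ O))) := h1
  rw [Subgroup.mem_pointwise_smul_iff_inv_smul_mem] at h2
  have h3 : (MulAut.conj t)⁻¹ • (⟨y, hPK hy⟩ : ↥(K ⊔ O)) = t⁻¹ * ⟨y, hPK hy⟩ * t := by
    rw [← map_inv]
    show t⁻¹ * _ * t⁻¹⁻¹ = _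
    rw [inv_inv]
  rw [h3] at h2
  exact mem_subgroupOf.1 h2

/-- `P` centralises a conjugate of `R` -/
theorem exists_conj {p : ℕ} [hp : Fact p.Prime] (hrp : r ≠ p) {O : Subgroup H} [O.Normal]
    (hO : (Nat.card O).Coprime p) {L : Subgroup H} (hL : ⁅L, L⁆ = L) (hR : IsPGroup r R)
    (hN : normalizer (R : Set H) ⊔ O = ⊤) (hs : Group.IsSolvable (act R).range) {P : Subgroup H}
    (hP : IsPGroup p P) (hPL : P ≤ L) : ∃ g : H, ∀ y ∈ P, ∀ x ∈ R, y * (g * x * g⁻¹) = g * x * g⁻¹ * y := by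
  obtain ⟨g, Q, hQ, hQp, hgQ⟩ := exists_conj_le hO hP (hPL.trans (le_ker_sup hL hN hs))
  have hc := le_centralizer_of_le_ker hrp hR hQp hQ
  refine ⟨g, fun y hy x hx => ?_⟩
  have h1 := mem_centralizer_iff.1 (hc (hgQ y hy)) x hx
  calc y * (g * x * g⁻¹) = g * ((g⁻¹ * y * g) * x) * g⁻¹ := by group
    _ = g * (x * (g⁻¹ * y * g)) * g⁻¹ := by rw [h1]
    _ = g * x * g⁻¹ * y := by group

omit hr in
/-- `P` centralises `O` if it centralises a Sylow subgroup for every prime -/
theorem le_centralizer_of_sylow {O P : Subgroup H} [hOn : O.Normal]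
    (h : ∀ r : ℕ, r.Prime → r ∣ Nat.card O → ∃ (R0 : Sylow r O) (g : H), ∀ y ∈ P,
      ∀ x ∈ (R0 : Subgroup O).map O.subtype, y * (g * x * g⁻¹) = g * x * g⁻¹ * y) :
    P ≤ centralizer (O : Set H) := by
  have hd : Nat.card O ∣ Nat.card ↥(O ⊓ centralizer (P : Set H)) := by
    rw [← Nat.factorization_prime_le_iff_dvd Nat.card_pos.ne' Nat.card_pos.ne']
    intro r hr
    by_cases hrO : r ∣ Nat.card O
    · have : Fact r.Prime := ⟨hr⟩
      obtain ⟨R0, g, hg⟩ := h r hr hrO
      rw [← hr.pow_dvd_iff_le_factorization Nat.card_pos.ne', ← R0.card_eq_multiplicity]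
      have h1 : Nat.card R0 = Nat.card ↥(((R0 : Subgroup O).map O.subtype).map (MulAut.conj g).toMonoidHom) := by
        rw [Subgroup.card_map_of_injective (MulAut.conj g).injective,
          Subgroup.card_map_of_injective O.subtype_injective]
      rw [h1]
      refine card_dvd_of_le ?_
      rintro _ ⟨x, hx, rfl⟩
      refine mem_inf.2 ⟨?_, ?_⟩
      · exact hOn.conj_mem x (map_subtype_le _ hx) g
      · rw [mem_centralizer_iff]
        intro y hy
        exact hg y hy x hx
    · rw [Nat.factorization_eq_zero_of_not_dvd hrO]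
      exact Nat.zero_le _
  have h1 : O ⊓ centralizer (P : Set H) = O :=
    eq_of_le_of_card_ge inf_le_left (Nat.le_of_dvd Nat.card_pos hd)
  rw [← le_centralizer_iff]
  exact inf_eq_left.1 h1

/-- **If every `N_H(R)` (`R` an `r`-subgroup of `O_{p'}(H)`) is solvable on `R / Φ(R)`, then `H` is good.** -/
theorem good_of_act {p : ℕ} [hp : Fact p.Prime]
    (h : ∀ r : ℕ, r.Prime → r ≠ p → ∀ R : Subgroup H, IsPGroup r R → R ≤ pPrimeCore p H →
      Group.IsSolvable (act R).range) : Good p H := by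
  have hOn := Cores.pPrimeCore_normal (G := H) p
  have hO := Cores.pPrimeCore_coprime (G := H) p
  rw [good_iff]
  intro K hK
  have h3 := pElem_eq_of_isPComponent hK
  have hperf := ClassificationK.PCompTransport.isPComponent_perfect p hK
  rw [commutator_eq_bot_iff_le_centralizer, ← h3]
  refine (closure_le _).mpr ?_
  rintro y ⟨hy, n, hn⟩
  have hP : IsPGroup p (zpowers y) := by
    refine IsPGroup.iff_card.2 ?_
    rw [Nat.card_zpowers]
    obtain ⟨k, -, hk⟩ := (Nat.dvd_prime_pow hp.out).1 (orderOf_dvd_of_pow_eq_one hn)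
    exact ⟨k, hk⟩
  have hPK : zpowers y ≤ K := (zpowers_le).2 hy
  refine (le_centralizer_of_sylow (O := pPrimeCore p H) (P := zpowers y) ?_) (mem_zpowers y)
  intro r hr hrO
  have : Fact r.Prime := ⟨hr⟩
  obtain ⟨R0⟩ : Nonempty (Sylow r ↥(pPrimeCore p H)) := inferInstance
  have hrp : r ≠ p := by
    rintro rfl
    exact (Nat.Prime.coprime_iff_not_dvd hr).1 hO.symm hrO
  have hRp : IsPGroup r ↥((R0 : Subgroup ↥(pPrimeCore p H)).map (pPrimeCore p H).subtype) := R0.2.map _
  obtain ⟨g, hg⟩ := exists_conj hrp hO hperf hRp (Sylow.normalizer_sup_eq_top R0)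
    (h r hr hrp _ hRp (map_subtype_le _)) hP hPK
  exact ⟨R0, g, hg⟩

/-- `|R| |N_H(R)^{R/Φ(R)}|` divides `|H|` -/
theorem card_mul_card_dvd (hR : IsPGroup r R) : Nat.card R * Nat.card (act R).range ∣ Nat.card H := by
  have h1 : Nat.card (act R).ker * (act R).ker.index = Nat.card ↥(normalizer (R : Set H)) := card_mul_index _
  have h2 : (act R).ker.index = Nat.card (act R).range := index_ker _
  have h3 : Nat.card (R.subgroupOf (normalizer (R : Set H))) = Nat.card R :=
    Nat.card_congr (subgroupOfEquivOfLe le_normalizer).toEquiv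
  have h4 : Nat.card R ∣ Nat.card (act R).ker := by
    rw [← h3]
    exact card_dvd_of_le (subgroupOf_le_ker hR)
  calc Nat.card R * Nat.card (act R).range ∣ Nat.card (act R).ker * Nat.card (act R).range :=
        Nat.mul_dvd_mul_right h4 _
    _ = Nat.card ↥(normalizer (R : Set H)) := by rw [← h2, h1]
    _ ∣ Nat.card H := card_subgroup_dvd_card _

end Act

end Cfsg.Agent.BpNum

end

-- merged: Cfsg.Agent.BpNum.Num
section

/-!
# S1332, sporadic groups: the numeric criterion

`good_of_card` : `¬ 64 ∣ |H|`, `¬ 81 ∣ |H|` (`p ≠ 3`), `¬ 125 ∣ |H|` (`p ≠ 5`), `¬ 343 ∣ |H|` (`p ≠ 7`) and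
`¬ r ^ 2 ∣ |H|` (`r ≥ 11`, `r ≠ p`) imply `Good p H`.
-/

set_option autoImplicit false

namespace Cfsg.Agent.BpNum

open Subgroup Cfsg Cfsg.Agent.Lib Cfsg.Agent.SignalizersComponents
open Cfsg.Agent.BpTab

section Solv

variable {Y : Type*} [Group Y] [Finite Y]

/-- Burnside's theorem in divisibility form -/
theorem solvable_of_dvd {p q a b : ℕ} (hp : p.Prime) (hq : q.Prime) (h : Nat.card Y ∣ p ^ a * q ^ b) :
    Group.IsSolvable Y := by
  obtain ⟨m, n, hm, hn, hmn⟩ := (Nat.dvd_mul).1 h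
  obtain ⟨i, -, rfl⟩ := (Nat.dvd_prime_pow hp).1 hm
  obtain ⟨j, -, rfl⟩ := (Nat.dvd_prime_pow hq).1 hn
  exact S0144.result p q i j hp hq hmn.symm

/-- a group whose order divides 84 is solvable -/
theorem solvable_of_dvd_84 (h : Nat.card Y ∣ 84) : Group.IsSolvable Y := by
  by_cases h7 : 7 ∣ Nat.card Y
  · have : Fact (Nat.Prime 7) := ⟨by norm_num⟩
    obtain ⟨m, hm⟩ := h7
    have hm12 : m ∣ 12 := by
      rw [hm] at h
      exact Nat.dvd_of_mul_dvd_mul_left (by norm_num : 0 < 7) (by simpa using h)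
    obtain ⟨P⟩ : Nonempty (Sylow 7 Y) := inferInstance
    have hP7 : Nat.card P = 7 := by
      rw [P.card_eq_multiplicity, hm]
      have h1 : (7 * m).factorization 7 = 1 := by
        rw [Nat.factorization_mul (by norm_num) (by rintro rfl; norm_num at hm12)]
        have h2 : m.factorization 7 = 0 := by
          apply Nat.factorization_eq_zero_of_not_dvd
          intro h3
          exact absurd (h3.trans hm12) (by norm_num)
        simp [h2, Nat.Prime.factorization_self (by norm_num : Nat.Prime 7)]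
      rw [h1]; rfl
    have hidx : (P : Subgroup Y).index = m := by
      have h1 := (P : Subgroup Y).card_mul_index
      have h2 : Nat.card (P : Subgroup Y) = 7 := hP7
      rw [h2, hm] at h1
      exact Nat.eq_of_mul_eq_mul_left (by norm_num) h1
    have hn1 : Nat.card (Sylow 7 Y) ∣ 12 := by
      have := P.card_dvd_index
      rw [hidx] at this
      exact this.trans hm12
    have hn2 := card_sylow_modEq_one 7 Y
    have hn3 : Nat.card (Sylow 7 Y) = 1 := by
      have hle : Nat.card (Sylow 7 Y) ≤ 12 := Nat.le_of_dvd (by norm_num) hn1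
      unfold Nat.ModEq at hn2
      interval_cases Nat.card (Sylow 7 Y) <;> omega
    have hsub : Subsingleton (Sylow 7 Y) := (Nat.card_eq_one_iff_unique.1 hn3).1
    have hnorm : (P : Subgroup Y).Normal := P.normal_of_subsingleton
    have h1 : Group.IsSolvable (P : Subgroup Y) := by
      have := P.2.isNilpotent
      infer_instance
    have h2 : Group.IsSolvable (Y ⧸ (P : Subgroup Y)) := by
      refine solvable_of_dvd (a := 2) (b := 1) Nat.prime_two Nat.prime_three ?_
      have h3 : Nat.card (Y ⧸ (P : Subgroup Y)) = m := hidx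
      rw [h3]
      exact hm12
    exact (Group.isSolvable_iff_subgroup_quotient (P : Subgroup Y)).2 ⟨h1, h2⟩
  · refine solvable_of_dvd (a := 2) (b := 1) Nat.prime_two Nat.prime_three ?_
    have h1 : Nat.Coprime (Nat.card Y) 7 := ((Nat.Prime.coprime_iff_not_dvd (by norm_num)).2 h7).symm
    exact h1.dvd_of_dvd_mul_right (by simpa using h : Nat.card Y ∣ 2 ^ 2 * 3 ^ 1 * 7)

end Solv

section Num

variable {V : Type*} [Group V] [Finite V] {r : ℕ} [hr : Fact r.Prime]

omit [Finite V] in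
theorem card_mulAut (hc : ∀ a b : V, a * b = b * a) (hpow : ∀ a : V, a ^ r = 1) {k : ℕ}
    (hk : Nat.card V = r ^ k) : Nat.card (MulAut V) = ∏ i : Fin k, (r ^ k - r ^ (i : ℕ)) := by
  let _ : CommGroup V := { (inferInstance : Group V) with mul_comm := hc }
  obtain ⟨e⟩ := Lib.ElemAbGL.mulAut_equiv_GL (V := V) r k hpow hk
  rw [Nat.card_congr e.toEquiv, Matrix.card_GL_field]
  simp [ZMod.card]

omit [Finite V] in
theorem mulAut_solvable_of_le_one {k : ℕ} (hk : Nat.card V = r ^ k) (h1 : k ≤ 1) :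
    Group.IsSolvable (MulAut V) := by
  have hcyc : IsCyclic V := by
    rcases Nat.le_one_iff_eq_zero_or_eq_one.1 h1 with rfl | rfl
    · rw [pow_zero] at hk
      have := (Nat.card_eq_one_iff_unique.1 hk).1
      infer_instance
    · rw [pow_one] at hk
      exact isCyclic_of_prime_card hk
  apply Group.isSolvable_of_comm
  intro a b
  apply (IsCyclic.mulAutMulEquiv V).injective
  rw [map_mul, map_mul, mul_comm]

/-- the numbers: a nonsolvable group of automorphisms of an elementary abelian group -/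
theorem dvd_of_not_solvable (hc : ∀ a b : V, a * b = b * a) (hpow : ∀ a : V, a ^ r = 1) {k : ℕ}
    (hk : Nat.card V = r ^ k) {Y : Subgroup (MulAut V)} (hY : ¬ Group.IsSolvable Y) :
    (r = 2 → 64 ∣ r ^ k * Nat.card Y) ∧ (r = 3 → 81 ∣ r ^ k * Nat.card Y) ∧ (r = 5 → 125 ∣ r ^ k * Nat.card Y) ∧
      (r = 7 → 343 ∣ r ^ k * Nat.card Y) ∧ r ^ 2 ∣ r ^ k * Nat.card Y := by
  have hk2 : 2 ≤ k := by
    by_contra hlt
    have := mulAut_solvable_of_le_one (r := r) hk (by omega)
    exact hY inferInstance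
  have hYd : Nat.card Y ∣ Nat.card (MulAut V) := card_subgroup_dvd_card Y
  rw [card_mulAut hc hpow hk] at hYd
  have big : ∀ m n : ℕ, m ≤ k → n = r ^ m → n ∣ r ^ k * Nat.card Y := by
    rintro m n hm rfl
    exact Dvd.dvd.mul_right (pow_dvd_pow r hm) _
  have mul : ∀ m n c : ℕ, m ≤ k → n = r ^ m * c → c ∣ Nat.card Y → n ∣ r ^ k * Nat.card Y := by
    rintro m n c hm rfl hcY
    exact Nat.mul_dvd_mul (pow_dvd_pow r hm) hcY
  have h4 : 4 ∣ Nat.card Y := by
    by_contra h
    exact hY (SylowL5.TypeAGen.isSolvable_of_not_four_dvd h)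
  refine ⟨?_, ?_, ?_, ?_, big 2 _ hk2 rfl⟩
  · rintro rfl
    by_cases hk4 : 4 ≤ k
    · exact mul 4 64 4 hk4 rfl h4
    · have hk3 : k = 2 ∨ k = 3 := by omega
      rcases hk3 with rfl | rfl
      · exfalso
        have h6 : Nat.card Y ∣ 6 := by simpa [Fin.prod_univ_succ] using hYd
        exact absurd (h4.trans h6) (by norm_num)
      · refine mul 3 64 8 le_rfl rfl ?_
        have h168 : Nat.card Y ∣ 168 := by simpa [Fin.prod_univ_succ] using hYd
        by_contra h8
        apply hY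
        apply solvable_of_dvd_84
        obtain ⟨m, hm⟩ := h4
        have hm2 : ¬ 2 ∣ m := by
          rintro ⟨l, rfl⟩
          exact h8 ⟨l, by rw [hm]; ring⟩
        have h1 : m ∣ 21 := by
          have h2 : m ∣ 42 := by
            rw [hm] at h168
            exact Nat.dvd_of_mul_dvd_mul_left (by norm_num : 0 < 4) (by simpa using h168)
          have h3 : Nat.Coprime m 2 := ((Nat.Prime.coprime_iff_not_dvd Nat.prime_two).2 hm2).symm
          exact h3.dvd_of_dvd_mul_right (by simpa using h2 : m ∣ 21 * 2)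
        rw [hm]
        exact Nat.mul_dvd_mul_left 4 h1
  · rintro rfl
    by_cases hk4 : 4 ≤ k
    · exact big 4 81 hk4 rfl
    · have hk3 : k = 2 ∨ k = 3 := by omega
      rcases hk3 with rfl | rfl
      · exfalso
        apply hY
        refine solvable_of_dvd (a := 4) (b := 1) Nat.prime_two Nat.prime_three ?_
        simpa [Fin.prod_univ_succ] using hYd
      · refine mul 3 81 3 le_rfl rfl ?_
        by_contra h3
        apply hY
        have h1 : Nat.card Y ∣ 11232 := by simpa [Fin.prod_univ_succ] using hYd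
        refine solvable_of_dvd (p := 2) (q := 13) (a := 5) (b := 1) Nat.prime_two (by norm_num) ?_
        have h2 : Nat.Coprime (Nat.card Y) (3 ^ 3) :=
          (((Nat.Prime.coprime_iff_not_dvd Nat.prime_three).2 h3).symm).pow_right 3
        exact h2.dvd_of_dvd_mul_right (by simpa using h1 : Nat.card Y ∣ 2 ^ 5 * 13 ^ 1 * 3 ^ 3)
  · rintro rfl
    by_cases hk4 : 3 ≤ k
    · exact big 3 125 hk4 rfl
    · have hk3 : k = 2 := by omega
      subst hk3
      refine mul 2 125 5 le_rfl rfl ?_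
      by_contra h3
      apply hY
      have h1 : Nat.card Y ∣ 480 := by simpa [Fin.prod_univ_succ] using hYd
      refine solvable_of_dvd (p := 2) (q := 3) (a := 5) (b := 1) Nat.prime_two Nat.prime_three ?_
      have h2 : Nat.Coprime (Nat.card Y) 5 := ((Nat.Prime.coprime_iff_not_dvd (by norm_num)).2 h3).symm
      exact h2.dvd_of_dvd_mul_right (by simpa using h1 : Nat.card Y ∣ 2 ^ 5 * 3 ^ 1 * 5)
  · rintro rfl
    by_cases hk4 : 3 ≤ k
    · exact big 3 343 hk4 rfl
    · have hk3 : k = 2 := by omega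
      subst hk3
      refine mul 2 343 7 le_rfl rfl ?_
      by_contra h3
      apply hY
      have h1 : Nat.card Y ∣ 2016 := by simpa [Fin.prod_univ_succ] using hYd
      refine solvable_of_dvd (p := 2) (q := 3) (a := 5) (b := 2) Nat.prime_two Nat.prime_three ?_
      have h2 : Nat.Coprime (Nat.card Y) 7 := ((Nat.Prime.coprime_iff_not_dvd (by norm_num)).2 h3).symm
      exact h2.dvd_of_dvd_mul_right (by simpa using h1 : Nat.card Y ∣ 2 ^ 5 * 3 ^ 2 * 7)

end Num

section Crit

variable {H : Type*} [Group H] [Finite H]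

/-- the same for the action of `N_H(R)` on `R / Φ(R)` -/
theorem dvd_card_of_not_solvable {r : ℕ} [hr : Fact r.Prime] {R : Subgroup H} (hR : IsPGroup r R)
    (hY : ¬ Group.IsSolvable (act R).range) :
    (r = 2 → 64 ∣ Nat.card H) ∧ (r = 3 → 81 ∣ Nat.card H) ∧ (r = 5 → 125 ∣ Nat.card H) ∧
      (r = 7 → 343 ∣ Nat.card H) ∧ r ^ 2 ∣ Nat.card H := by
  obtain ⟨m, hm⟩ := IsPGroup.iff_card.1 hR
  have hq : Nat.card (R ⧸ frattini R) ∣ Nat.card R := card_quotient_dvd_card _
  obtain ⟨k, -, hk⟩ := (Nat.dvd_prime_pow hr.out).1 (hm ▸ hq)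
  obtain ⟨h1, h2, h3, h4, h5⟩ := dvd_of_not_solvable (quo_comm hR) (quo_pow hR) hk hY
  have h6 : r ^ k * Nat.card (act R).range ∣ Nat.card H := by
    rw [← hk]
    exact (Nat.mul_dvd_mul_right hq _).trans (card_mul_card_dvd hR)
  exact ⟨fun h => (h1 h).trans h6, fun h => (h2 h).trans h6, fun h => (h3 h).trans h6,
    fun h => (h4 h).trans h6, h5.trans h6⟩

/-- **The numeric criterion.** -/
theorem good_of_card {p : ℕ} [hp : Fact p.Prime] (h2 : p ≠ 2 → ¬ 64 ∣ Nat.card H)
    (h3 : p ≠ 3 → ¬ 81 ∣ Nat.card H) (h5 : p ≠ 5 → ¬ 125 ∣ Nat.card H) (h7 : p ≠ 7 → ¬ 343 ∣ Nat.card H)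
    (h11 : ∀ r : ℕ, r.Prime → 11 ≤ r → r ≠ p → ¬ r ^ 2 ∣ Nat.card H) : Good p H := by
  refine good_of_act fun r hr hrp R hR _ => ?_
  have : Fact r.Prime := ⟨hr⟩
  by_contra hY
  obtain ⟨k2, k3, k5, k7, k11⟩ := dvd_card_of_not_solvable hR hY
  by_cases e2 : r = 2
  · exact h2 (fun h => hrp (e2.trans h.symm)) (k2 e2)
  by_cases e3 : r = 3
  · exact h3 (fun h => hrp (e3.trans h.symm)) (k3 e3)
  by_cases e5 : r = 5
  · exact h5 (fun h => hrp (e5.trans h.symm)) (k5 e5)
  by_cases e7 : r = 7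
  · exact h7 (fun h => hrp (e7.trans h.symm)) (k7 e7)
  · refine h11 r hr ?_ hrp k11
    by_contra hlt
    have hle : r ≤ 10 := by omega
    interval_cases r <;> first | omega | exact absurd hr (by norm_num)

end Crit

end Cfsg.Agent.BpNum

end
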